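import Mathlib

/-!
# The Euler derivation and Krull intersection

In characteristic zero a derivation acting as a unit multiple of the identity on `I/I²` forces the ideal of a
closed subscheme through a section to be generated by the equations carrying its linear parts.
-/

set_option autoImplicit false
set_option maxHeartbeats 1000000

universe u

open MvPolynomial Matrix

namespace CartierRelLib

section Krull

variable {B : Type u} [CommRing B] (I p J G : Ideal B) {R₀ : Type u} [CommRing R₀] [Algebra R₀ B] (E : Derivation R₀ B B) (D : B)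

/-- An element lies in `K` up to a multiplier outside `p`. -/
def InUpTo (K : Ideal B) (x : B) : Prop := ∃ s, s ∉ p ∧ s * x ∈ K

variable {p} in
theorem InUpTo.add [p.IsPrime] {K : Ideal B} {x y : B} (hx : InUpTo p K x) (hy : InUpTo p K y) :
    InUpTo p K (x + y) := by
  obtain ⟨s, hs, hsx⟩ := hx
  obtain ⟨t, ht, hty⟩ := hy
  refine ⟨s * t, ‹p.IsPrime›.mul_notMem hs ht, ?_⟩
  have : s * t * (x + y) = t * (s * x) + s * (t * y) := by ring
  rw [this]
  exact K.add_mem (K.mul_mem_left _ hsx) (K.mul_mem_left _ hty)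

variable {p} in
theorem InUpTo.mul [p.IsPrime] {K : Ideal B} {x : B} (c : B) (hx : InUpTo p K x) : InUpTo p K (c * x) := by
  obtain ⟨s, hs, hsx⟩ := hx
  refine ⟨s, hs, ?_⟩
  rw [mul_left_comm]
  exact K.mul_mem_left _ hsx

variable {p} in
theorem InUpTo.of_mem [p.IsPrime] {K : Ideal B} {x : B} (hx : x ∈ K) : InUpTo p K x :=
  ⟨1, fun h => ‹p.IsPrime›.ne_top ((Ideal.eq_top_iff_one p).2 h), by simpa using hx⟩

variable {p} in
theorem InUpTo.of_mul [p.IsPrime] {K : Ideal B} {x s : B} (hs : s ∉ p) (hx : InUpTo p K (s * x)) :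
    InUpTo p K x := by
  obtain ⟨t, ht, htx⟩ := hx
  exact ⟨t * s, ‹p.IsPrime›.mul_notMem ht hs, by rwa [mul_assoc]⟩

variable {p} in
theorem InUpTo.mul_ideal [p.IsPrime] {K : Ideal B} {x : B} (hx : InUpTo p K x) {K' : Ideal B} {a : B}
    (ha : a ∈ K') : InUpTo p (K' * K) (a * x) := by
  obtain ⟨s, hs, hsx⟩ := hx
  refine ⟨s, hs, ?_⟩
  rw [mul_left_comm]
  exact Ideal.mul_mem_mul ha hsx

variable {p} in
theorem InUpTo.mono [p.IsPrime] {K K' : Ideal B} (h : K ≤ K') {x : B} (hx : InUpTo p K x) : InUpTo p K' x :=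
  hx.imp fun _ hs => ⟨hs.1, h hs.2⟩

theorem euler_pow [p.IsPrime] (hE : ∀ x ∈ I, InUpTo p (I ^ 2 ⊔ G) (E x - D * x)) :
    ∀ (m : ℕ), ∀ x ∈ I ^ (m + 1), InUpTo p (I ^ (m + 2) ⊔ G) (E x - ((m + 1 : ℕ) : B) * D * x) := by
  intro m
  induction m with
  | zero =>
    intro x hx
    rw [zero_add, pow_one] at hx
    simpa using hE x hx
  | succ m ih =>
    intro x hx
    rw [pow_succ] at hx
    induction hx using Submodule.mul_induction_on' with
    | mem_mul_mem a ha b hb =>
      have e : E (a * b) - ((m + 1 + 1 : ℕ) : B) * D * (a * b) =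
          b * (E a - ((m + 1 : ℕ) : B) * D * a) + a * (E b - D * b) := by
        rw [E.leibniz]
        push_cast
        simp only [smul_eq_mul]
        ring
      rw [e]
      refine InUpTo.add ?_ ?_
      · refine ((ih a ha).mul_ideal hb).mono ?_
        rw [Ideal.mul_sup, ← pow_succ']
        exact sup_le_sup (le_of_eq rfl) Ideal.mul_le_right
      · refine ((hE b hb).mul_ideal ha).mono ?_
        rw [Ideal.mul_sup, ← pow_add]
        exact sup_le_sup (le_of_eq rfl) Ideal.mul_le_right
    | add a _ b _ ha hb =>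
      have e : E (a + b) - ((m + 1 + 1 : ℕ) : B) * D * (a + b) =
          (E a - ((m + 1 + 1 : ℕ) : B) * D * a) + (E b - ((m + 1 + 1 : ℕ) : B) * D * b) := by
        rw [map_add]
        ring
      rw [e]
      exact ha.add hb

/-- **Krull intersection along an Euler derivation.** -/
theorem inUpTo_of_euler [IsNoetherianRing B] [p.IsPrime] (hIp : I ≤ p) (hJI : J ≤ I) (hGJ : G ≤ J)
    (hEG : ∀ x ∈ G, E x ∈ G) (hD : D ∉ p) (hE : ∀ x ∈ I, InUpTo p (I ^ 2 ⊔ G) (E x - D * x))
    (hJ : ∀ f ∈ J, InUpTo p (I * J ⊔ G) (E f)) (hn : ∀ n : ℕ, n ≠ 0 → (n : B) ∉ p) :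
    ∀ f ∈ J, InUpTo p G f := by
  have main : ∀ m : ℕ, ∀ f ∈ J, InUpTo p (I ^ (m + 1) ⊔ G) f := by
    intro m
    induction m with
    | zero =>
      intro f hf
      refine InUpTo.of_mem (Ideal.mem_sup_left ?_)
      rw [zero_add, pow_one]
      exact hJI hf
    | succ m ih =>
      have hIJ : ∀ x ∈ I * J, InUpTo p (I ^ (m + 2) ⊔ G) x := by
        intro x hx
        induction hx using Submodule.mul_induction_on' with
        | mem_mul_mem a ha b hb =>
          refine ((ih b hb).mul_ideal ha).mono ?_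
          rw [Ideal.mul_sup, ← pow_succ']
          exact sup_le_sup (le_of_eq rfl) Ideal.mul_le_right
        | add a _ b _ ha hb => exact ha.add hb
      intro f hf
      obtain ⟨t, ht, htf⟩ := ih f hf
      obtain ⟨g, hg, h, hh, hgh⟩ := Submodule.mem_sup.1 htf
      have hgJ : g ∈ J := by
        have : g = t * f - h := eq_sub_of_add_eq hgh
        rw [this]
        exact J.sub_mem (J.mul_mem_left _ hf) (hGJ hh)
      have hEg : InUpTo p (I ^ (m + 2) ⊔ G) (E g) := by
        obtain ⟨s, hs, hsg⟩ := hJ g hgJ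
        obtain ⟨a, ha, b, hb, hab⟩ := Submodule.mem_sup.1 hsg
        refine InUpTo.of_mul hs ?_
        rw [← hab]
        exact (hIJ a ha).add (InUpTo.of_mem (Ideal.mem_sup_right hb))
      have h1 : InUpTo p (I ^ (m + 2) ⊔ G) (((m + 1 : ℕ) : B) * D * g) := by
        have e : ((m + 1 : ℕ) : B) * D * g = E g + (-1) * (E g - ((m + 1 : ℕ) : B) * D * g) := by ring
        rw [e]
        exact hEg.add ((euler_pow I p G E D hE m g hg).mul _)
      have h2 : InUpTo p (I ^ (m + 2) ⊔ G) g :=
        InUpTo.of_mul (‹p.IsPrime›.mul_notMem (hn _ m.succ_ne_zero) hD) h1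
      refine InUpTo.of_mul ht ?_
      rw [← hgh]
      exact h2.add (InUpTo.of_mem (Ideal.mem_sup_right hh))
  intro f hf
  let Bp := Localization.AtPrime p
  let θ := algebraMap B Bp
  have hmem : θ f ∈ G.map θ := by
    by_cases hG : G.map θ = ⊤
    · rw [hG]; trivial
    let G' := G.map θ
    haveI : Nontrivial (Bp ⧸ G') := Ideal.Quotient.nontrivial_iff.2 hG
    haveI : IsLocalRing (Bp ⧸ G') := IsLocalRing.of_surjective' (Ideal.Quotient.mk G') Ideal.Quotient.mk_surjective
    haveI : IsNoetherianRing Bp := IsLocalization.isNoetherianRing p.primeCompl Bp inferInstance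
    let ρ : B →+* Bp ⧸ G' := (Ideal.Quotient.mk G').comp θ
    have hIne : I.map ρ ≠ ⊤ := by
      intro htop
      have hle : I.map ρ ≤ IsLocalRing.maximalIdeal (Bp ⧸ G') := by
        rw [Ideal.map_le_iff_le_comap]
        intro x hx
        rw [Ideal.mem_comap, IsLocalRing.mem_maximalIdeal, mem_nonunits_iff]
        intro hu
        have hu' : IsUnit (θ x) := by
          by_contra hnu
          have h1 : G' ⊔ Ideal.span {θ x} ≤ IsLocalRing.maximalIdeal Bp :=
            sup_le (IsLocalRing.le_maximalIdeal hG) (by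
              rw [Ideal.span_singleton_le_iff_mem]
              exact hnu)
          obtain ⟨w, hw⟩ := hu.exists_right_inv
          obtain ⟨w, rfl⟩ := Ideal.Quotient.mk_surjective w
          have h2 : θ x * w - 1 ∈ G' := by
            rw [← Ideal.Quotient.eq, map_mul, map_one]
            exact hw
          refine (IsLocalRing.maximalIdeal.isMaximal Bp).ne_top ((Ideal.eq_top_iff_one _).2 ?_)
          have := (IsLocalRing.maximalIdeal Bp).sub_mem
            ((IsLocalRing.maximalIdeal Bp).mul_mem_right w (h1 (Ideal.mem_sup_right (Ideal.mem_span_singleton_self _))))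
            (h1 (Ideal.mem_sup_left h2))
          simpa using this
        exact (IsLocalization.AtPrime.isUnit_to_map_iff Bp p x).1 hu' (hIp hx)
      rw [htop, top_le_iff] at hle
      exact (IsLocalRing.maximalIdeal.isMaximal (Bp ⧸ G')).ne_top hle
    have h0 : ρ f ∈ ⨅ n : ℕ, (I.map ρ) ^ n := by
      refine Submodule.mem_iInf _ |>.2 fun n => ?_
      obtain ⟨s, hs, hsf⟩ := main n f hf
      obtain ⟨a, ha, b, hb, hab⟩ := Submodule.mem_sup.1 hsf
      have hu : IsUnit (ρ s) :=
        ((IsLocalization.AtPrime.isUnit_to_map_iff Bp p s).2 hs).map (Ideal.Quotient.mk G')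
      rw [← Ideal.unit_mul_mem_iff_mem _ hu, ← map_mul, ← hab, map_add,
        show ρ b = 0 from Ideal.Quotient.eq_zero_iff_mem.2 (Ideal.mem_map_of_mem θ hb), add_zero,
        ← Ideal.map_pow]
      exact Ideal.mem_map_of_mem ρ (Ideal.pow_le_pow_right n.le_succ ha)
    rw [Ideal.iInf_pow_eq_bot_of_isLocalRing _ hIne] at h0
    exact Ideal.Quotient.eq_zero_iff_mem.1 ((Submodule.mem_bot _).1 h0)
  rw [IsLocalization.algebraMap_mem_map_algebraMap_iff p.primeCompl] at hmem
  obtain ⟨s, hs, hsf⟩ := hmem
  exact ⟨s, hs, hsf⟩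

end Krull

section Poly

variable {R : Type u} [CommRing R] {N : ℕ}

/-- The derivation with prescribed values on the variables. -/
noncomputable def derOf (e : Fin N → MvPolynomial (Fin N) R) :
    Derivation R (MvPolynomial (Fin N) R) (MvPolynomial (Fin N) R) :=
  MvPolynomial.mkDerivation R e

theorem derOf_apply (e : Fin N → MvPolynomial (Fin N) R) (f : MvPolynomial (Fin N) R) :
    derOf e f = ∑ i, e i * pderiv i f := by
  change MvPolynomial.mkDerivation R e f = _
  induction f using MvPolynomial.induction_on with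
  | C a => simp
  | add a b ha hb => simp [map_add, ha, hb, mul_add, Finset.sum_add_distrib]
  | mul_X a i ha =>
    rw [Derivation.leibniz, mkDerivation_X, ha]
    simp only [smul_eq_mul, pderiv_mul, pderiv_X, mul_add, Finset.sum_add_distrib, Finset.mul_sum]
    rw [add_comm]
    congr 1
    · exact Finset.sum_congr rfl fun j _ => by ring
    · classical
      rw [Finset.sum_eq_single i]
      · simp [mul_comm]
      · intro j _ hj
        simp [Pi.single_apply, hj.symm]
      · simp

variable (a : Fin N → R)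

/-- The ideal of the section. -/
noncomputable def secIdeal : Ideal (MvPolynomial (Fin N) R) := RingHom.ker (MvPolynomial.eval a)

theorem X_sub_C_mem (i : Fin N) : X i - C (a i) ∈ secIdeal a := by
  simp [secIdeal]

theorem mulVec_mem {B : Type u} [CommRing B] {n m : Type} [Fintype m] (K : Ideal B) (A : Matrix n m B) (v : m → B)
    (hv : ∀ l, v l ∈ K) (i : n) : (A *ᵥ v) i ∈ K :=
  K.sum_mem fun l _ => K.mul_mem_left _ (hv l)

theorem taylor (f : MvPolynomial (Fin N) R) :
    (∑ i, (X i - C (a i)) * pderiv i f) - (f - C (MvPolynomial.eval a f)) ∈ secIdeal a ^ 2 := by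
  classical
  induction f using MvPolynomial.induction_on with
  | C r => simp
  | add f g hf hg =>
    have e := Ideal.add_mem _ hf hg
    simp only [map_add, mul_add, Finset.sum_add_distrib]
    convert e using 1
    ring
  | mul_X f j hf =>
    have h1 : (f - C (MvPolynomial.eval a f)) * (X j - C (a j)) ∈ secIdeal a ^ 2 := by
      rw [pow_two]
      exact Ideal.mul_mem_mul (by simp [secIdeal]) (X_sub_C_mem a j)
    have hs : ∑ i, (X i - C (a i)) * (f * Pi.single (M := fun _ => MvPolynomial (Fin N) R) i 1 j) =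
        (X j - C (a j)) * f := by
      rw [Finset.sum_eq_single j]
      · simp
      · intro i _ hi
        simp [Pi.single_apply, hi.symm]
      · simp
    have h2 := Ideal.add_mem _ ((secIdeal a ^ 2).mul_mem_left (X j) hf) h1
    simp only [pderiv_mul, pderiv_X, mul_add, Finset.sum_add_distrib, map_mul, eval_X]
    rw [hs]
    convert h2 using 1
    rw [mul_sub (X j) (∑ i, _), Finset.mul_sum]
    have : ∑ i, (X i - C (a i)) * (pderiv i f * X j) = ∑ i, X j * ((X i - C (a i)) * pderiv i f) :=
      Finset.sum_congr rfl fun i _ => by ring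
    rw [this]
    ring

variable {c : ℕ} {ι : Type} [Fintype ι] (p : Ideal (MvPolynomial (Fin N) R)) [p.IsPrime]
  (g : Fin c → MvPolynomial (Fin N) R) (f : ι → MvPolynomial (Fin N) R)
  (Nm : Matrix (Fin N) (Fin c) (MvPolynomial (Fin N) R))

/-- The Jacobian matrix. -/
noncomputable def jac : Matrix (Fin c) (Fin N) (MvPolynomial (Fin N) R) := fun k i => pderiv i (g k)

/-- The Noetherian case. -/
theorem inUpTo_span_noetherian [IsNoetherianRing R] (hIp : secIdeal a ≤ p) (hf : ∀ j, f j ∈ secIdeal a)
    (hg : ∀ k, g k ∈ Ideal.span (Set.range f)) (hD : (jac g * Nm).det ∉ p)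
    (s : ι → MvPolynomial (Fin N) R) (hs : ∀ j, s j ∉ p)
    (b : ι → Fin c → MvPolynomial (Fin N) R) (w : ι → Fin N → ι → MvPolynomial (Fin N) R)
    (hspan : ∀ j i, s j * pderiv i (f j) = ∑ k, b j k * jac g k i + ∑ l, w j i l * f l)
    (hn : ∀ n : ℕ, n ≠ 0 → (n : MvPolynomial (Fin N) R) ∉ p) :
    ∀ x ∈ Ideal.span (Set.range f), InUpTo p (Ideal.span (Set.range g)) x := by
  classical
  set I := secIdeal a with hIdef
  set G := Ideal.span (Set.range g) with hGdef
  set J := Ideal.span (Set.range f) with hJdef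
  set M := jac g with hM
  set D := (M * Nm).det with hDdef
  let x : Fin N → MvPolynomial (Fin N) R := fun i => X i - C (a i)
  let wv : Fin c → MvPolynomial (Fin N) R := M *ᵥ x
  let e : Fin N → MvPolynomial (Fin N) R := D • x - Nm *ᵥ ((M * Nm).adjugate *ᵥ wv)
  have hJI : J ≤ I := Ideal.span_le.2 (Set.range_subset_iff.2 hf)
  have hGJ : G ≤ J := Ideal.span_le.2 (Set.range_subset_iff.2 hg)
  have hMe : M *ᵥ e = 0 := by
    simp only [e, Matrix.mulVec_sub, Matrix.mulVec_smul, Matrix.mulVec_mulVec, ← Matrix.mul_assoc,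
      Matrix.mul_adjugate, wv]
    rw [Matrix.smul_mul, Matrix.one_mul, Matrix.smul_mulVec, sub_self]
  have hEg : ∀ k, derOf e (g k) = 0 := fun k => by
    rw [derOf_apply]
    refine Eq.trans ?_ (congrFun hMe k)
    simp only [Matrix.mulVec, dotProduct, M, jac]
    exact Finset.sum_congr rfl fun i _ => mul_comm _ _
  have hwg : ∀ k, wv k - g k ∈ I ^ 2 := fun k => by
    have := taylor a (g k)
    rw [show MvPolynomial.eval a (g k) = 0 from hJI (hg k), map_zero, sub_zero] at this
    convert this using 1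
    simp only [wv, Matrix.mulVec, dotProduct, M, jac, x]
    rw [sub_left_inj]
    exact Finset.sum_congr rfl fun i _ => mul_comm _ _
  have hw : ∀ k, wv k ∈ I ^ 2 ⊔ G := fun k => by
    rw [← sub_add_cancel (wv k) (g k)]
    exact Submodule.add_mem_sup (hwg k) (Ideal.subset_span ⟨k, rfl⟩)
  have hwI : ∀ k, wv k ∈ I := fun k => by
    have h1 : wv k - g k ∈ I := Ideal.pow_le_self two_ne_zero (hwg k)
    simpa using I.add_mem h1 (hJI (hg k))
  have he : ∀ i, e i ∈ I := fun i => by
    refine I.sub_mem (I.mul_mem_left _ (X_sub_C_mem a i)) ?_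
    exact mulVec_mem I _ _ (mulVec_mem I _ _ hwI) i
  refine inUpTo_of_euler I p J G (derOf e) D hIp hJI hGJ ?_ hD ?_ ?_ hn
  · intro y hy
    induction hy using Submodule.span_induction with
    | mem y hy =>
      obtain ⟨k, rfl⟩ := hy
      rw [hEg]
      exact G.zero_mem
    | zero => simp
    | add y z _ _ hy hz =>
      rw [map_add]
      exact G.add_mem hy hz
    | smul r y hy' hy =>
      rw [smul_eq_mul, (derOf e).leibniz]
      exact G.add_mem (G.mul_mem_left r hy) (by rw [smul_eq_mul, mul_comm]; exact G.mul_mem_left _ hy')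
  · intro y hy
    refine InUpTo.of_mem ?_
    have h1 := taylor a y
    rw [show MvPolynomial.eval a y = 0 from hy, map_zero, sub_zero] at h1
    have h2 : derOf e y - D * y =
        D * ((∑ i, x i * pderiv i y) - y) - ∑ i, (Nm *ᵥ ((M * Nm).adjugate *ᵥ wv)) i * pderiv i y := by
      rw [derOf_apply, mul_sub, Finset.mul_sum]
      simp only [e, Pi.sub_apply, Pi.smul_apply, smul_eq_mul, sub_mul, Finset.sum_sub_distrib, mul_assoc]
      ring
    rw [h2]
    refine Ideal.sub_mem _ (Ideal.mem_sup_left ((I ^ 2).mul_mem_left _ h1)) ?_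
    exact Ideal.sum_mem _ fun i _ => Ideal.mul_mem_right _ _ (mulVec_mem _ _ _ (mulVec_mem _ _ _ hw) i)
  · intro y hy
    induction hy using Submodule.span_induction with
    | mem y hy =>
      obtain ⟨j, rfl⟩ := hy
      refine ⟨s j, hs j, Ideal.mem_sup_left ?_⟩
      have h1 : s j * derOf e (f j) = ∑ i, e i * ∑ l, w j i l * f l := by
        rw [derOf_apply, Finset.mul_sum]
        simp_rw [mul_left_comm (s j), hspan, mul_add, Finset.sum_add_distrib]
        rw [add_eq_right]
        simp_rw [Finset.mul_sum]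
        rw [Finset.sum_comm]
        refine Finset.sum_eq_zero fun k _ => ?_
        refine Eq.trans ?_ ((congrArg (b j k * ·) (congrFun hMe k)).trans (mul_zero _))
        simp only [Matrix.mulVec, dotProduct, Finset.mul_sum]
        exact Finset.sum_congr rfl fun i _ => by ring
      rw [h1]
      exact Ideal.sum_mem _ fun i _ => Ideal.mul_mem_mul (he i)
        (J.sum_mem fun l _ => J.mul_mem_left _ (Ideal.subset_span ⟨l, rfl⟩))
    | zero => exact InUpTo.of_mem (by simp)
    | add y z _ _ hy hz =>
      rw [map_add]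
      exact hy.add hz
    | smul r y hy' hy =>
      rw [smul_eq_mul, (derOf e).leibniz, smul_eq_mul, smul_eq_mul]
      refine (hy.mul r).add (InUpTo.of_mem (Ideal.mem_sup_left ?_))
      rw [mul_comm y]
      refine Ideal.mul_mem_mul ?_ hy'
      rw [derOf_apply]
      exact I.sum_mem fun i _ => I.mul_mem_right _ (he i)

/-- The general case, by descent to a finitely generated subring. -/
theorem inUpTo_span (hIp : secIdeal a ≤ p) (hf : ∀ j, f j ∈ secIdeal a)
    (hg : ∀ k, g k ∈ Ideal.span (Set.range f)) (hD : (jac g * Nm).det ∉ p)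
    (s : ι → MvPolynomial (Fin N) R) (hs : ∀ j, s j ∉ p)
    (b : ι → Fin c → MvPolynomial (Fin N) R) (w : ι → Fin N → ι → MvPolynomial (Fin N) R)
    (hspan : ∀ j i, s j * pderiv i (f j) = ∑ k, b j k * jac g k i + ∑ l, w j i l * f l)
    (hn : ∀ n : ℕ, n ≠ 0 → (n : MvPolynomial (Fin N) R) ∉ p) :
    ∀ x ∈ Ideal.span (Set.range f), InUpTo p (Ideal.span (Set.range g)) x := by
  classical
  choose q hq using fun k => Submodule.mem_span_range_iff_exists_fun _ |>.1 (hg k)
  let polys : Set (MvPolynomial (Fin N) R) := Set.range (fun x : Fin N × Fin c => Nm x.1 x.2) ∪ Set.range f ∪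
    Set.range g ∪ Set.range s ∪ Set.range (fun x : ι × Fin c => b x.1 x.2) ∪
    Set.range (fun x : ι × Fin N × ι => w x.1 x.2.1 x.2.2) ∪ Set.range (fun x : Fin c × ι => q x.1 x.2)
  have hpolys : polys.Finite :=
    (((((((Set.finite_range _).union (Set.finite_range f)).union (Set.finite_range g)).union
      (Set.finite_range s)).union (Set.finite_range _)).union (Set.finite_range _)).union (Set.finite_range _))
  let S : Set R := Set.range a ∪ ⋃ y ∈ polys, (↑y.coeffs : Set R)
  have hS : S.Finite := (Set.finite_range a).union (hpolys.biUnion fun y _ => Finset.finite_toSet _)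
  let R0 := Algebra.adjoin ℤ S
  haveI : Algebra.FiniteType ℤ R0 := by
    refine (Subalgebra.fg_iff_finiteType _).1 ?_
    have := Subalgebra.fg_adjoin_finset (R := ℤ) hS.toFinset
    rwa [Set.Finite.coe_toFinset] at this
  haveI : IsNoetherianRing R0 := Algebra.FiniteType.isNoetherianRing ℤ R0
  let φ : MvPolynomial (Fin N) R0 →+* MvPolynomial (Fin N) R := MvPolynomial.map (algebraMap R0 R)
  have hφ : Function.Injective φ := MvPolynomial.map_injective _ Subtype.val_injective
  have lift : ∀ y : MvPolynomial (Fin N) R, y ∈ polys → ∃ y0, φ y0 = y := fun y hy =>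
    (MvPolynomial.mem_range_map_iff_coeffs_subset (f := algebraMap R0 R)).2
      fun r hr => ⟨⟨r, Algebra.subset_adjoin (Or.inr (Set.mem_biUnion hy hr))⟩, rfl⟩
  choose Nm0 hNm0 using fun i k => lift (Nm i k)
    (Or.inl (Or.inl (Or.inl (Or.inl (Or.inl (Or.inl ⟨(i, k), rfl⟩))))))
  choose f0 hf0 using fun j => lift (f j) (Or.inl (Or.inl (Or.inl (Or.inl (Or.inl (Or.inr ⟨j, rfl⟩))))))
  choose g0 hg0 using fun k => lift (g k) (Or.inl (Or.inl (Or.inl (Or.inl (Or.inr ⟨k, rfl⟩)))))
  choose s0 hs0 using fun j => lift (s j) (Or.inl (Or.inl (Or.inl (Or.inr ⟨j, rfl⟩))))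
  choose b0 hb0 using fun j k => lift (b j k) (Or.inl (Or.inl (Or.inr ⟨(j, k), rfl⟩)))
  choose w0 hw0 using fun j i l => lift (w j i l) (Or.inl (Or.inr ⟨(j, i, l), rfl⟩))
  choose q0 hq0 using fun k l => lift (q k l) (Or.inr ⟨(k, l), rfl⟩)
  let a0 : Fin N → R0 := fun i => ⟨a i, Algebra.subset_adjoin (by simp [S])⟩
  have heval : ∀ y, algebraMap R0 R (MvPolynomial.eval a0 y) = MvPolynomial.eval a (φ y) := fun y => by
    induction y using MvPolynomial.induction_on with
    | C r => simp [φ]
    | add u v hu hv => simp [map_add, hu, hv]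
    | mul_X u i hu =>
      simp only [map_mul, hu, eval_X, φ, map_X]
      rfl
  have hjac : ∀ k i, φ (jac g0 k i) = jac g k i := fun k i => by
    simp only [jac, φ, ← MvPolynomial.pderiv_map]
    rw [← hg0]
  let Nm0' : Matrix (Fin N) (Fin c) (MvPolynomial (Fin N) R0) := Matrix.of Nm0
  have hdet : φ (jac g0 * Nm0').det = (jac g * Nm).det := by
    rw [RingHom.map_det, RingHom.mapMatrix_apply, Matrix.map_mul]
    congr 2
    · ext k i : 1; exact hjac k i
    · ext i k : 1; exact hNm0 i k
  intro x hx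
  have key := inUpTo_span_noetherian a0 (p.comap φ) g0 f0 Nm0'
    (fun y hy => hIp (show MvPolynomial.eval a (φ y) = 0 by rw [← heval, show MvPolynomial.eval a0 y = 0 from hy, map_zero]))
    (fun j => Subtype.val_injective (show algebraMap R0 R _ = algebraMap R0 R 0 by
      rw [heval, hf0, map_zero]; exact hf j))
    (fun k => (Submodule.mem_span_range_iff_exists_fun _).2 ⟨q0 k, hφ (by
      simp only [map_sum, smul_eq_mul, map_mul, hq0, hf0, hg0]
      simpa only [smul_eq_mul] using hq k)⟩)
    (by rw [Ideal.mem_comap, hdet]; exact hD)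
    s0 (fun j => by rw [Ideal.mem_comap, hs0]; exact hs j) b0 w0
    (fun j i => hφ (by
      simp only [map_sum, map_add, map_mul, hs0, hb0, hw0, hf0, hjac]
      rw [← hspan j i]
      refine congrArg (s j * ·) ?_
      change MvPolynomial.map (algebraMap R0 R) (pderiv i (f0 j)) = _
      rw [← MvPolynomial.pderiv_map, ← hf0]))
    (fun n hn0 => by rw [Ideal.mem_comap, map_natCast]; exact hn n hn0)
  induction hx using Submodule.span_induction with
  | mem y hy =>
    obtain ⟨j, rfl⟩ := hy
    obtain ⟨t, ht, htf⟩ := key (f0 j) (Ideal.subset_span ⟨j, rfl⟩)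
    refine ⟨φ t, ht, ?_⟩
    have := Ideal.mem_map_of_mem φ htf
    rw [map_mul, hf0, Ideal.map_span, ← Set.range_comp] at this
    simpa only [Function.comp_def, hg0] using this
  | zero => exact InUpTo.of_mem (Ideal.zero_mem _)
  | add y z _ _ hy hz => exact hy.add hz
  | smul r y _ hy => exact hy.mul r

end Poly

end CartierRelLib
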