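import Groth.Agent.CartierRelLib.Euler

/-!
# Smoothness along a section in characteristic zero

A finitely presented algebra with a section and finite projective differentials is smooth along the section as soon
as every positive integer is invertible.
-/

set_option autoImplicit false
set_option maxHeartbeats 1000000
set_option linter.style.haveILetI false

universe u

open MvPolynomial Matrix KaehlerDifferential

namespace CartierRelLib

variable {R A : Type u} [CommRing R] [CommRing A] [Algebra R A] {N : ℕ} (π : MvPolynomial (Fin N) R →ₐ[R] A)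

/-- The linear part of a relation. -/
noncomputable def lin (f : MvPolynomial (Fin N) R) : Fin N → A := fun i => π (pderiv i f)

theorem lin_add (f g : MvPolynomial (Fin N) R) : lin π (f + g) = lin π f + lin π g := by
  funext i
  simp [lin]

theorem lin_mul {f : MvPolynomial (Fin N) R} (hf : π f = 0) (h : MvPolynomial (Fin N) R) :
    lin π (h * f) = π h • lin π f := by
  funext i
  simp [lin, pderiv_mul, hf]

/-- The module of linear parts. -/
noncomputable def linKer (hπ : Function.Surjective π) : Submodule A (Fin N → A) where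
  carrier := lin π '' {f | π f = 0}
  add_mem' := by
    rintro _ _ ⟨f, hf, rfl⟩ ⟨g, hg, rfl⟩
    exact ⟨f + g, show π (f + g) = 0 by rw [map_add, hf, hg, add_zero], lin_add π f g⟩
  zero_mem' := ⟨0, map_zero π, by funext i; simp [lin]⟩
  smul_mem' := by
    rintro a _ ⟨f, hf, rfl⟩
    obtain ⟨h, rfl⟩ := hπ a
    exact ⟨h * f, show π (h * f) = 0 by rw [map_mul, hf, mul_zero], lin_mul π hf h⟩

/-- The map to the differentials. -/
noncomputable def toOmega : (Fin N → A) →ₗ[A] Ω[A⁄R] :=
  Fintype.linearCombination A fun i => D R A (π (X i))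

theorem toOmega_lin (f : MvPolynomial (Fin N) R) : toOmega π (lin π f) = D R A (π f) := by
  induction f using MvPolynomial.induction_on with
  | C r =>
    rw [show lin π (C r) = 0 by funext i; simp [lin], map_zero, ← MvPolynomial.algebraMap_eq, AlgHom.commutes,
      Derivation.map_algebraMap]
  | add f g hf hg => rw [lin_add, map_add, hf, hg, map_add π, map_add]
  | mul_X f i hf =>
    have e : lin π (f * X i) = π (X i) • lin π f + π f • Pi.single i 1 := by
      funext j
      simp only [lin, pderiv_mul, pderiv_X, map_add, map_mul, Pi.add_apply, Pi.smul_apply, smul_eq_mul]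
      rcases eq_or_ne i j with rfl | h
      · simp [mul_comm]
      · simp [Pi.single_apply, h, h.symm, mul_comm]
    rw [e, map_add, map_smul, map_smul, hf, map_mul π, Derivation.leibniz,
      show toOmega π (Pi.single i 1) = D R A (π (X i)) by
        simp [toOmega, Fintype.linearCombination_apply_single]]
    abel

theorem toOmega_surjective (hπ : Function.Surjective π) : Function.Surjective (toOmega π) := by
  rw [← LinearMap.range_eq_top, ← top_le_iff, ← KaehlerDifferential.span_range_derivation, Submodule.span_le]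
  rintro _ ⟨a, rfl⟩
  obtain ⟨f, rfl⟩ := hπ a
  exact ⟨_, toOmega_lin π f⟩

theorem ker_toOmega (hπ : Function.Surjective π) : LinearMap.ker (toOmega π) = linKer π hπ := by
  refine le_antisymm ?_ ?_
  · let Q := (Fin N → A) ⧸ linKer π hπ
    let σ := Function.surjInv hπ
    have hσ : ∀ a, π (σ a) = a := Function.surjInv_eq hπ
    have wd : ∀ f g, π f = π g → Submodule.Quotient.mk (p := linKer π hπ) (lin π f) = Submodule.Quotient.mk (lin π g) := by
      intro f g h
      rw [Submodule.Quotient.eq]
      refine ⟨f - g, show π (f - g) = 0 by rw [map_sub, h, sub_self], ?_⟩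
      funext i
      simp [lin]
    let δ : Derivation R A Q :=
      { toFun := fun a => Submodule.Quotient.mk (lin π (σ a))
        map_add' := fun a b => by
          rw [← Submodule.Quotient.mk_add, ← lin_add]
          exact wd _ _ (by rw [map_add, hσ, hσ, hσ])
        map_smul' := fun r a => by
          change _ = r • (Submodule.Quotient.mk (lin π (σ a)) : Q)
          rw [← algebraMap_smul A r (Submodule.Quotient.mk (lin π (σ a)) : Q), ← Submodule.Quotient.mk_smul]
          refine (wd _ (C r * σ a) (by
            rw [map_mul, hσ, hσ, ← MvPolynomial.algebraMap_eq, AlgHom.commutes, Algebra.smul_def])).trans ?_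
          congr 1
          funext i
          simp [lin, pderiv_mul]
        map_one_eq_zero' := by
          refine (wd _ 1 (by rw [hσ, map_one])).trans ?_
          rw [show lin π (1 : MvPolynomial (Fin N) R) = 0 by funext i; simp [lin]]
          exact Submodule.Quotient.mk_zero _
        leibniz' := fun a b => by
          change _ = a • (Submodule.Quotient.mk (lin π (σ b)) : Q) + b • Submodule.Quotient.mk (lin π (σ a))
          rw [← Submodule.Quotient.mk_smul, ← Submodule.Quotient.mk_smul, ← Submodule.Quotient.mk_add]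
          refine (wd _ (σ a * σ b) (by rw [map_mul, hσ, hσ, hσ])).trans ?_
          congr 1
          funext i
          simp only [lin, pderiv_mul, map_add, map_mul, Pi.add_apply, Pi.smul_apply, smul_eq_mul, hσ]
          ring }
    have hcomp : δ.liftKaehlerDifferential ∘ₗ toOmega π = (linKer π hπ).mkQ := by
      refine LinearMap.pi_ext' fun i => LinearMap.ext_ring ?_
      simp only [LinearMap.comp_apply, LinearMap.coe_single, toOmega, Fintype.linearCombination_apply_single, one_smul,
        Derivation.liftKaehlerDifferential_comp_D, Submodule.mkQ_apply]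
      refine (wd _ (X i) (hσ _)).trans ?_
      congr 1
      funext j
      rcases eq_or_ne i j with rfl | h <;> simp [lin, pderiv_X, Pi.single_apply, *]
    intro x hx
    rw [← Submodule.ker_mkQ (linKer π hπ), LinearMap.mem_ker, ← hcomp, LinearMap.comp_apply, hx, map_zero]
  · rintro _ ⟨f, hf, rfl⟩
    rw [LinearMap.mem_ker, toOmega_lin, hf, map_zero]

/-- Choice of equations carrying the linear parts at a prime. -/
theorem exists_equations (hπ : Function.Surjective π) [Module.Projective A Ω[A⁄R]] (q : Ideal A) [q.IsPrime] :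
    ∃ (c : ℕ) (g : Fin c → MvPolynomial (Fin N) R) (Nm : Matrix (Fin N) (Fin c) (MvPolynomial (Fin N) R)),
      (∀ k, π (g k) = 0) ∧ π (jac g * Nm).det ∉ q ∧
      ∀ f, π f = 0 → ∃ s : MvPolynomial (Fin N) R, π s ∉ q ∧ ∃ b : Fin c → MvPolynomial (Fin N) R,
        ∀ i, π (s * pderiv i f) = π (∑ k, b k * jac g k i) := by
  classical
  obtain ⟨t, ht⟩ := Module.projective_lifting_property (toOmega π) LinearMap.id (toOmega_surjective π hπ)
  let r : (Fin N → A) →ₗ[A] (Fin N → A) := LinearMap.id - t ∘ₗ toOmega π
  have hrK : ∀ x, r x ∈ linKer π hπ := fun x => by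
    rw [← ker_toOmega π hπ, LinearMap.mem_ker, LinearMap.sub_apply, map_sub, LinearMap.comp_apply,
      show toOmega π (t (toOmega π x)) = toOmega π x from LinearMap.congr_fun ht _]
    simp
  have hrfix : ∀ x ∈ linKer π hπ, r x = x := fun x hx => by
    rw [← ker_toOmega π hπ, LinearMap.mem_ker] at hx
    simp [r, hx]
  choose h hh0 hhr using fun i => hrK (Pi.single i 1)
  let u : Fin N → Fin N → A := fun i => lin π (h i)
  have hexp : ∀ x ∈ linKer π hπ, x = ∑ i, x i • u i := fun x hx => by
    conv_lhs => rw [← hrfix x hx, pi_eq_sum_univ' x, map_sum]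
    exact Finset.sum_congr rfl fun i _ => by rw [map_smul, ← hhr i]
  -- reduce modulo `q`
  let κ := FractionRing (A ⧸ q)
  let θ : A →+* κ := (algebraMap (A ⧸ q) κ).comp (Ideal.Quotient.mk q)
  have hθ : ∀ a, θ a = 0 ↔ a ∈ q := fun a => by
    simp [θ, Ideal.Quotient.eq_zero_iff_mem]
  let ub : Fin N → Fin N → κ := fun i j => θ (u i j)
  obtain ⟨b, hb, hbspan, hbli⟩ := exists_linearIndependent κ (Set.range ub)
  haveI : Fintype b := ((Set.finite_range ub).subset hb).fintype
  let c := Fintype.card b
  let eb : Fin c ≃ b := (Fintype.equivFin b).symm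
  choose idx hidx using fun k : Fin c => hb (eb k).2
  have hli : LinearIndependent κ (fun k => ub (idx k)) := by
    have := hbli.comp eb eb.injective
    rwa [show ((fun x : b => (x : Fin N → κ)) ∘ eb) = fun k => ub (idx k) from funext fun k => (hidx k).symm] at this
  have hspanb : ∀ i, ub i ∈ Submodule.span κ (Set.range fun k => ub (idx k)) := fun i => by
    have : ub i ∈ Submodule.span κ b := hbspan ▸ Submodule.subset_span ⟨i, rfl⟩
    refine Submodule.span_mono ?_ this
    intro x hx
    exact ⟨eb.symm ⟨x, hx⟩, by rw [show (fun k => ub (idx k)) _ = _ from hidx _, eb.apply_symm_apply]⟩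
  let L : (Fin c → κ) →ₗ[κ] (Fin N → κ) := Fintype.linearCombination κ fun k => ub (idx k)
  have hL : Function.Injective L := linearIndependent_iff_injective_fintypeLinearCombination.1 hli
  obtain ⟨G, hG⟩ := L.exists_leftInverse_of_injective (LinearMap.ker_eq_bot.2 hL)
  -- clear denominators
  obtain ⟨⟨d, hd⟩, hdd⟩ := IsLocalization.exist_integer_multiples (nonZeroDivisors (A ⧸ q)) Finset.univ
    (fun x : Fin N × Fin c => G (Pi.single x.1 1) x.2)
  choose nb hnb using fun x => hdd x (Finset.mem_univ x)
  choose P hP using fun x => ((Ideal.Quotient.mk_surjective).comp hπ) (nb x)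
  obtain ⟨dd, hdd'⟩ := Ideal.Quotient.mk_surjective d
  have hd0 : θ dd ≠ 0 := by
    rw [show θ dd = algebraMap (A ⧸ q) κ d by rw [← hdd']; rfl]
    exact IsFractionRing.to_map_ne_zero_of_mem_nonZeroDivisors hd
  let g : Fin c → MvPolynomial (Fin N) R := fun k => h (idx k)
  let Nm : Matrix (Fin N) (Fin c) (MvPolynomial (Fin N) R) := fun i k => P (i, k)
  have hNm : ∀ i k, θ (π (Nm i k)) = θ dd * G (Pi.single i 1) k := fun i k => by
    change algebraMap (A ⧸ q) κ (Ideal.Quotient.mk q (π (P (i, k)))) = _
    rw [show Ideal.Quotient.mk q (π (P (i, k))) = nb (i, k) from hP (i, k), hnb (i, k),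
      show θ dd = algebraMap (A ⧸ q) κ d by rw [← hdd']; rfl, Algebra.smul_def]
  let ρ : MvPolynomial (Fin N) R →+* κ := θ.comp π.toRingHom
  have hMN : ρ.mapMatrix (jac g * Nm) = θ dd • (1 : Matrix (Fin c) (Fin c) κ) := by
    ext k l
    have h1 : G (ub (idx k)) = Pi.single k 1 := by
      have := LinearMap.congr_fun hG (Pi.single k 1)
      simpa [L, Fintype.linearCombination_apply_single] using this
    have h2 : G (ub (idx k)) l = ∑ i, ub (idx k) i * G (Pi.single i 1) l := by
      conv_lhs => rw [pi_eq_sum_univ' (ub (idx k))]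
      simp [Finset.sum_apply]
    simp only [RingHom.mapMatrix_apply, Matrix.map_apply, Matrix.mul_apply, map_sum, map_mul, Matrix.smul_apply,
      smul_eq_mul]
    have h3 : ∀ i, ρ (jac g k i) * ρ (Nm i l) = θ dd * (ub (idx k) i * G (Pi.single i 1) l) := fun i => by
      change ub (idx k) i * θ (π (Nm i l)) = _
      rw [hNm]; ring
    rw [Finset.sum_congr rfl fun i _ => h3 i, ← Finset.mul_sum, ← h2, h1, Matrix.one_apply, Pi.single_apply]
    simp [eq_comm]
  let MN : Matrix (Fin c) (Fin c) A := (jac g * Nm).map π
  let Dt : A := π (jac g * Nm).det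
  have hDt : Dt = MN.det := π.map_det _
  have hDq : Dt ∉ q := fun hq => by
    have h0 : ρ (jac g * Nm).det = 0 := (hθ _).2 hq
    rw [RingHom.map_det, hMN, Matrix.det_smul, Matrix.det_one, mul_one] at h0
    exact hd0 (eq_zero_of_pow_eq_zero h0)
  refine ⟨c, g, Nm, fun k => hh0 _, hDq, ?_⟩
  let Vg : Matrix (Fin c) (Fin N) A := (jac g).map π
  let NA : Matrix (Fin N) (Fin c) A := Nm.map π
  let U : Matrix (Fin N) (Fin N) A := fun i j => u i j
  have hMN' : Vg * NA = MN := (Matrix.map_mul).symm
  let C : Matrix (Fin N) (Fin c) A := U * NA * MN.adjugate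
  let W : Matrix (Fin N) (Fin N) A := Dt • U - C * Vg
  have hWN : W * NA = 0 := by
    simp only [W, C, Matrix.sub_mul, Matrix.smul_mul, Matrix.mul_assoc, hMN', Matrix.adjugate_mul, ← hDt,
      Matrix.mul_smul, Matrix.mul_one, sub_self]
  have hWK : ∀ i, W i ∈ linKer π hπ := fun i => by
    have e : W i = Dt • lin π (h i) - ∑ k, C i k • lin π (g k) := by
      funext j
      simp only [W, Matrix.sub_apply, Matrix.smul_apply, Matrix.mul_apply, Pi.sub_apply, Finset.sum_apply, Pi.smul_apply,
        smul_eq_mul]
      rfl
    rw [e]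
    exact Submodule.sub_mem _ (Submodule.smul_mem _ _ ⟨h i, hh0 i, rfl⟩)
      (Submodule.sum_mem _ fun k _ => Submodule.smul_mem _ _ ⟨g k, hh0 _, rfl⟩)
  have hWU : W = W * U := by
    ext i j
    conv_lhs => rw [hexp (W i) (hWK i)]
    simp only [Finset.sum_apply, Pi.smul_apply, smul_eq_mul, Matrix.mul_apply]
    rfl
  have hWq : ∀ i j, θ (W i j) = 0 := by
    intro i
    obtain ⟨co, hco⟩ := (Submodule.mem_span_range_iff_exists_fun κ).1
      (show (fun j => θ (W i j)) ∈ Submodule.span κ (Set.range fun k => ub (idx k)) by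
        have e : (fun j => θ (W i j)) = ∑ l, θ (W i l) • ub l := by
          funext j
          conv_lhs => rw [hWU]
          simp only [Matrix.mul_apply, map_sum, map_mul, Finset.sum_apply, Pi.smul_apply, smul_eq_mul]
          rfl
        rw [e]
        exact Submodule.sum_mem _ fun l _ => Submodule.smul_mem _ _ (hspanb l))
    have hG0 : G (fun j => θ (W i j)) = 0 := by
      funext l
      have e1 : G (fun j => θ (W i j)) l = ∑ j, θ (W i j) * G (Pi.single j 1) l := by
        conv_lhs => rw [pi_eq_sum_univ' (fun j => θ (W i j))]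
        simp [Finset.sum_apply]
      have e2 : θ ((W * NA) i l) = θ dd * ∑ j, θ (W i j) * G (Pi.single j 1) l := by
        simp only [Matrix.mul_apply, map_sum, map_mul, NA, Matrix.map_apply, hNm, Finset.mul_sum]
        exact Finset.sum_congr rfl fun j _ => by ring
      rw [hWN, Matrix.zero_apply, map_zero, ← e1] at e2
      exact (mul_eq_zero.1 e2.symm).resolve_left hd0
    have hL' : L co = fun j => θ (W i j) := by rw [← hco]; rfl
    have : co = 0 := by
      have := LinearMap.congr_fun hG co
      rw [LinearMap.comp_apply, hL', hG0] at this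
      exact this.symm
    intro j
    exact (congrFun hL' j).symm.trans (by rw [this, map_zero]; rfl)
  let T : Matrix (Fin N) (Fin N) A := Dt • (1 : Matrix (Fin N) (Fin N) A) - W
  have hTq : T.det ∉ q := fun hq => by
    have h0 : θ T.det = 0 := (hθ _).2 hq
    rw [RingHom.map_det] at h0
    have e : θ.mapMatrix T = θ Dt • (1 : Matrix (Fin N) (Fin N) κ) := by
      ext i j
      simp [T, Matrix.one_apply, hWq]
      split_ifs <;> simp
    rw [e, Matrix.det_smul, Matrix.det_one, mul_one] at h0
    exact (fun hz => hDq ((hθ _).1 hz)) (eq_zero_of_pow_eq_zero h0)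
  have hTW : Dt • (T * W) = 0 := by
    have h1 : T * W = W * C * Vg := by
      have e : W * W = Dt • W - W * C * Vg := by
        calc W * W = W * (Dt • U - C * Vg) := rfl
          _ = Dt • W - W * C * Vg := by rw [Matrix.mul_sub, Matrix.mul_smul, ← hWU, ← Matrix.mul_assoc W C Vg]
      rw [show T * W = Dt • W - W * W by simp [T, Matrix.sub_mul], e, sub_sub_cancel]
    have h2 : W * C * MN = 0 := by
      calc W * C * MN = W * C * Vg * NA := by rw [Matrix.mul_assoc (W * C), hMN']
        _ = T * (W * NA) := by rw [← h1, Matrix.mul_assoc]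
        _ = 0 := by rw [hWN, Matrix.mul_zero]
    have h3 : Dt • (W * C) = 0 := by
      calc Dt • (W * C) = W * C * (MN * MN.adjugate) := by
            rw [Matrix.mul_adjugate, ← hDt, Matrix.mul_smul, Matrix.mul_one]
        _ = 0 := by rw [← Matrix.mul_assoc, h2, Matrix.zero_mul]
    rw [h1, ← Matrix.smul_mul, h3, Matrix.zero_mul]
  have hW0 : (Dt * T.det) • W = 0 := by
    calc (Dt * T.det) • W = T.adjugate * (Dt • (T * W)) := by
          rw [Matrix.mul_smul, ← Matrix.mul_assoc, Matrix.adjugate_mul, Matrix.smul_mul, Matrix.one_mul, smul_smul]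
      _ = 0 := by rw [hTW, Matrix.mul_zero]
  intro f hf
  obtain ⟨s, hs⟩ := hπ (Dt * T.det * Dt)
  choose bb hbb using fun k => hπ (Dt * T.det * ∑ i, π (pderiv i f) * C i k)
  refine ⟨s, ?_, bb, fun j => ?_⟩
  · rw [hs]
    exact ‹q.IsPrime›.mul_notMem (‹q.IsPrime›.mul_notMem hDq hTq) hDq
  · have e1 : π (pderiv j f) = ∑ i, π (pderiv i f) * U i j := by
      have := congrFun (hexp (lin π f) ⟨f, hf, rfl⟩) j
      simpa [lin, U, u, Finset.sum_apply] using this
    have e2 : ∀ i, Dt * T.det * Dt * U i j = Dt * T.det * ∑ k, C i k * Vg k j := fun i => by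
      have := congrFun (congrFun hW0 i) j
      simp only [W, Matrix.smul_apply, Matrix.sub_apply, Matrix.mul_apply, Matrix.zero_apply, smul_eq_mul,
        mul_sub] at this
      rw [mul_assoc (Dt * T.det)]
      exact sub_eq_zero.1 this
    rw [map_mul, hs, map_sum]
    simp only [map_mul, hbb]
    rw [e1, Finset.mul_sum]
    have e3 : ∀ i, Dt * T.det * Dt * (π (pderiv i f) * U i j) =
        ∑ k, Dt * T.det * (π (pderiv i f) * C i k) * Vg k j := fun i => by
      rw [mul_left_comm, e2, Finset.mul_sum, Finset.mul_sum]
      exact Finset.sum_congr rfl fun k _ => by ring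
    rw [Finset.sum_congr rfl fun i _ => e3 i, Finset.sum_comm]
    refine Finset.sum_congr rfl fun k _ => ?_
    rw [Finset.mul_sum, Finset.sum_mul]
    rfl

/-- **Smoothness along a section.** -/
theorem isSmoothAt_of_section [Algebra.FinitePresentation R A] [Module.Projective A Ω[A⁄R]] (σ : A →ₐ[R] R)
    (hn : ∀ n : ℕ, n ≠ 0 → IsUnit (n : R)) (q : Ideal A) [q.IsPrime] (hq : RingHom.ker σ ≤ q) :
    Algebra.IsSmoothAt R q := by
  classical
  obtain ⟨N, π, hπ, hker⟩ := ‹Algebra.FinitePresentation R A›.out
  obtain ⟨c, g, Nm, hg, hD, hspan⟩ := exists_equations π hπ q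
  let p : Ideal (MvPolynomial (Fin N) R) := q.comap π
  obtain ⟨S, hS⟩ := hker
  let f : S → MvPolynomial (Fin N) R := Subtype.val
  have hJ : Ideal.span (Set.range f) = RingHom.ker π.toRingHom := by
    rw [Subtype.range_val]; exact hS
  have hmem : ∀ x, x ∈ Ideal.span (Set.range f) ↔ π x = 0 := fun x => by rw [hJ]; exact Iff.rfl
  choose s hs b hb using fun j => hspan (f j) ((hmem _).1 (Ideal.subset_span ⟨j, rfl⟩))
  choose w hw using fun j i => (Submodule.mem_span_range_iff_exists_fun (MvPolynomial (Fin N) R)).1
    ((hmem (s j * pderiv i (f j) - ∑ k, b j k * jac g k i)).2 (by rw [map_sub, hb j i, sub_self]))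
  let a : Fin N → R := fun i => σ (π (X i))
  have heval : σ.comp π = aeval a := by
    ext i; simp [a]
  have ha : ∀ x, MvPolynomial.eval a x = σ (π x) := fun x => (AlgHom.congr_fun heval x).symm ▸ rfl
  let ιS := Fin (Fintype.card S)
  let es : ιS ≃ S := (Fintype.equivFin S).symm
  have hrange : Set.range (f ∘ es) = Set.range f := es.surjective.range_comp f
  have key : ∀ x, π x = 0 → InUpTo p (Ideal.span (Set.range g)) x := fun x hx =>
    inUpTo_span a p g (f ∘ es) Nm
      (fun y hy => hq (show σ (π y) = 0 by rw [← ha]; exact hy))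
      (fun j => show MvPolynomial.eval a _ = 0 by
        rw [ha, Function.comp_apply, (hmem _).1 (Ideal.subset_span ⟨es j, rfl⟩), map_zero])
      (fun k => by rw [hrange, hmem]; exact hg k) hD (fun j => s (es j)) (fun j => hs (es j))
      (fun j => b (es j)) (fun j i l => w (es j) i (es l))
      (fun j i => by
        have := hw (es j) i
        simp only [smul_eq_mul, eq_sub_iff_add_eq] at this
        rw [← es.sum_comp] at this
        simp only [Function.comp_apply]
        rw [← this, add_comm])
      (fun n hn0 hmemp => ‹q.IsPrime›.ne_top (Ideal.eq_top_of_isUnit_mem _ hmemp (by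
        simpa using ((hn n hn0).map (algebraMap R A)))))
      x (by rw [hrange, hmem]; exact hx)
  let G := Algebra.Generators.ofSurjective (fun i => π (X i))
    (show Function.Surjective (aeval fun i => π (X i)) from fun z => (hπ z).imp fun x hx =>
      ((AlgHom.congr_fun (MvPolynomial.aeval_unique π) x).symm.trans hx))
  have hval : ∀ x : MvPolynomial (Fin N) R, aeval G.val x = π x := fun x =>
    (AlgHom.congr_fun (MvPolynomial.aeval_unique π) x).symm
  suffices h : (⟨q, inferInstance⟩ : PrimeSpectrum A) ∈ Algebra.smoothLocus R A from h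
  rw [Algebra.smoothLocus_eq_compl_support_inter]
  refine ⟨?_, ?_⟩
  · rw [Set.mem_compl_iff, Module.notMem_support_iff']
    intro x
    obtain ⟨⟨v, hv⟩, rfl⟩ := G.equivH1Cotangent.surjective x
    obtain ⟨⟨y, hy⟩, rfl⟩ := Algebra.Extension.Cotangent.mk_surjective v
    change MvPolynomial (Fin N) R at y
    have hy0 : π y = 0 := by
      exact (hval y).symm.trans hy
    have hlin : ∀ i, π (pderiv i y) = 0 := fun i => by
      have h1 := congrArg (fun z => G.cotangentSpaceBasis.repr z i) (LinearMap.mem_ker.1 hv)
      simp only [map_zero, Finsupp.zero_apply] at h1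
      have h2 : G.toExtension.cotangentComplex (Algebra.Extension.Cotangent.mk ⟨y, hy⟩) =
          (1 : A) ⊗ₜ KaehlerDifferential.D R G.toExtension.Ring y :=
        Algebra.Extension.cotangentComplex_mk (P := G.toExtension) _
      have h3 : G.cotangentSpaceBasis.repr
          ((1 : A) ⊗ₜ KaehlerDifferential.D R G.toExtension.Ring y) i = 0 := by
        rw [← h2]; exact h1
      erw [G.cotangentSpaceBasis_repr_tmul] at h3
      rw [one_mul, hval] at h3
      exact h3
    obtain ⟨t, ht, hty⟩ := key y hy0
    obtain ⟨co, hco⟩ := (Submodule.mem_span_range_iff_exists_fun _).1 hty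
    have hlin2 : ∀ i, ∑ k, π (co k) * π (jac g k i) = 0 := fun i => by
      have h1 := congrArg (fun z => π (pderiv i z)) hco
      simp only [smul_eq_mul, map_sum, pderiv_mul, map_add, map_mul, hg, hy0, hlin, mul_zero, zero_add, add_zero,
        jac] at h1
      exact h1
    let MN : Matrix (Fin c) (Fin c) A := (jac g * Nm).map π
    have hcoD : ∀ k, π ((jac g * Nm).det * co k) = 0 := by
      have h1 : Matrix.vecMul (fun k => π (co k)) ((jac g).map π) = 0 := by
        funext i
        simpa [Matrix.vecMul, dotProduct] using hlin2 i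
      have h2 : Matrix.vecMul (fun k => π (co k)) MN = 0 := by
        change Matrix.vecMul _ ((jac g * Nm).map π) = 0
        rw [Matrix.map_mul, ← Matrix.vecMul_vecMul, h1, Matrix.zero_vecMul]
      have h3 : Matrix.vecMul (fun k => π (co k)) (MN * MN.adjugate) = 0 := by
        rw [← Matrix.vecMul_vecMul, h2, Matrix.zero_vecMul]
      rw [Matrix.mul_adjugate, Matrix.vecMul_smul, Matrix.vecMul_one] at h3
      intro k
      rw [map_mul, show π (jac g * Nm).det = MN.det from π.map_det _]
      exact congrFun h3 k
    refine ⟨π ((jac g * Nm).det * t), ?_, ?_⟩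
    · change π ((jac g * Nm).det * t) ∉ q
      rw [map_mul]
      exact ‹q.IsPrime›.mul_notMem hD ht
    · refine ((G.equivH1Cotangent.map_smul _ _).symm.trans ?_).trans (map_zero G.equivH1Cotangent)
      rw [← hval]
      refine congrArg _ (Subtype.ext ?_)
      let z : G.toExtension.Ring := (jac g * Nm).det * t
      change aeval G.val ((jac g * Nm).det * t) • Algebra.Extension.Cotangent.mk (P := G.toExtension) ⟨y, hy⟩ = 0
      have hsm : aeval G.val ((jac g * Nm).det * t) • Algebra.Extension.Cotangent.mk (P := G.toExtension) ⟨y, hy⟩ =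
          Algebra.Extension.Cotangent.mk (P := G.toExtension) (z • ⟨y, hy⟩) := by
        rw [map_smul]
        exact IsScalarTower.algebraMap_smul (R := G.toExtension.Ring) A z (Algebra.Extension.Cotangent.mk (P := G.toExtension) ⟨y, hy⟩)
      rw [hsm]
      refine Algebra.Extension.Cotangent.ext ?_
      rw [Algebra.Extension.Cotangent.val_mk, Algebra.Extension.Cotangent.val_zero, Ideal.toCotangent_eq_zero]
      change ((jac g * Nm).det * t) * y ∈ G.toExtension.ker ^ 2
      rw [mul_assoc, ← hco, Finset.mul_sum, pow_two]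
      refine Ideal.sum_mem _ fun k _ => ?_
      rw [smul_eq_mul, ← mul_assoc]
      refine Ideal.mul_mem_mul ?_ ?_
      · exact (hval _).trans (hcoD k)
      · exact (hval _).trans (hg k)
  · haveI : Module.Flat A Ω[A⁄R] := inferInstance
    have : Module.FinitePresentation A Ω[A⁄R] := Module.finitePresentation_of_projective A _
    rw [Module.freeLocus_eq_univ]
    trivial

end CartierRelLib
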